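import Cfsg.Agent.TH.Cl.Big.Form

/-!
# S3541, classical socles: the boxes `BoxBigU`, `BoxBigSp`, `BoxBigO` (helper57)
-/

set_option autoImplicit false
set_option linter.unusedSectionVars false

namespace Cfsg.Agent.TH.Cl

open Cfsg.Agent.DS.Cl Cfsg.Agent.DS.Cl.Fwd Cfsg.Agent.SB.Cl Module
open Cfsg.Agent.ClassicalGeometry.InvolutiveNorm Cfsg.Agent.LieClassical
open Cfsg.Agent.SB.Tor (qr ap_qr isoU isoU_ms qr_form tau_self)

namespace Big

variable {K V : Type} [Field K] [Fintype K] [AddCommGroup V] [Module K V] [Finite V] {h : HF K V} {F : FR h.EB}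
  {D : Finset h.EB} {e : h.EB}

theorem exists_norm (hU : IsU h) {v : V} (hv : h.b v v ≠ 0) {n : K} (hn : h.τ n = n) :
    ∃ c : K, h.b (c • v) (c • v) = n := by
  obtain ⟨c, hc⟩ := exists_mul_sigma_eq (IsU.tau_ne hU) h.τ_τ (a := n / h.b v v) (by rw [map_div₀, hn, tau_self hU.1])
  exact ⟨c, by rw [h.smul_left, h.smul_right, ← mul_assoc, hc, div_mul_cancel₀ _ hv]⟩

theorem exists_aniso (hU : IsU h) (hD : Fr D) (he : e ∈ D) : ∃ v, h.ap e v = v ∧ h.b v v ≠ 0 := by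
  by_contra hcon
  push Not at hcon
  obtain ⟨x, hx, hx0⟩ := SB.Tor.exists_fix (hD.idem e he) (hD.ne e he)
  obtain ⟨θ, hθ⟩ := exists_add_sigma_ne_zero (IsU.tau_ne hU)
  obtain ⟨y, hy, hyx⟩ := exists_partner hD he hx hx0 θ
  have h1 := hcon (x + y) (by rw [map_add, hx, hy])
  rw [h.add_left, h.add_right, h.add_right, hcon x hx, hcon y hy, IsU.swap hU y x, hyx] at h1
  exact hθ (by linear_combination h1)

theorem exists_iso (hU : IsU h) (hD : Fr D) (he : e ∈ D) (hr : 2 ≤ rk h e) :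
    ∃ v, v ≠ 0 ∧ h.ap e v = v ∧ h.b v v = 0 := by
  have : Module.Finite K V := Module.Finite.of_finite
  obtain ⟨u, hu, hn⟩ := exists_aniso hU hD he
  obtain ⟨x, hx, hx'⟩ := exists_not_mem (ap_idem hD he) (lt_of_le_of_lt (finrank_one_le u) hr)
  have h1 : h.b (x - (h.b x u / h.b u u) • u) u = 0 := by
    rw [h.sub_left, h.smul_left, div_mul_cancel₀ _ hn, sub_self]
  have h2 : h.ap e (x - (h.b x u / h.b u u) • u) = x - (h.b x u / h.b u u) • u := by rw [map_sub, map_smul, hx, hu]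
  have h3 : x - (h.b x u / h.b u u) • u ≠ 0 := fun h0 =>
    hx' (Submodule.mem_span_singleton.2 ⟨_, (sub_eq_zero.1 h0).symm⟩)
  generalize x - (h.b x u / h.b u u) • u = y at h1 h2 h3
  by_cases h4 : h.b y y = 0
  · exact ⟨y, h3, h2, h4⟩
  obtain ⟨c, hc⟩ := exists_norm hU h4 (n := -h.b u u) (by rw [map_neg, tau_self hU.1])
  have h5 : h.b (c • y) u = 0 := by rw [h.smul_left, h1, mul_zero]
  refine ⟨u + c • y, fun h0 => hn ?_, by rw [map_add, map_smul, hu, h2], ?_⟩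
  · have h6 := h.add_left u (c • y) u
    rwa [h0, h.zero_left, h5, add_zero, eq_comm] at h6
  · rw [h.add_left, h.add_right, h.add_right, hc, h5, b_swap_zero h5]
    ring

theorem det_qr (κ : K) (v : V) : LinearMap.det (h.ap (qr h κ v)) = 1 - κ * h.b v v := by
  have : Module.Finite K V := Module.Finite.of_finite
  have h1 : h.ap (qr h κ v) = LinearMap.transvection (-(κ • h.lin v)) v := LinearMap.ext fun x => by
    rw [ap_qr, LinearMap.transvection.apply, sub_eq_add_neg, ← neg_smul]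
    rfl
  rw [h1, LinearMap.transvection.det, sub_eq_add_neg]
  rfl

theorem b_diff (hs : star e = e) {u w : V} (hu : h.ap e u = u) (hw : h.ap e w = 0) (hwu : h.b w w = h.b u u) :
    h.b (u - w) (u - w) = 2 * h.b u u ∧ h.b u (u - w) = h.b u u := by
  simp only [h.sub_left, h.sub_right, b_cross hs hu hw, b_cross' hs hu hw, hwu]
  constructor <;> ring

theorem iso_span {u v : V} (hn : h.b u u ≠ 0) (hv : h.b v v = 0) {a : K} (ha : a ≠ 0) (h1 : a • v ∈ K ∙ u) : v = 0 := by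
  obtain ⟨t, rfl⟩ := Submodule.mem_span_singleton.1 ((Submodule.smul_mem_iff _ ha).1 h1)
  rw [h.smul_left, h.smul_right] at hv
  obtain rfl : t = 0 := by simpa [hn] using hv
  rw [zero_smul]

variable {Q : QuadraticForm K V}

theorem exists_sing (hD : Fr D) (he : e ∈ D) (hr : 3 ≤ rk h e) : ∃ v, v ≠ 0 ∧ h.ap e v = v ∧ Q v = 0 := by
  obtain ⟨_, ⟨x, rfl⟩, h1, h2⟩ := OrthFinite.exists_sing_mem (Q := Q) (LinearMap.range (h.ap e)) hr
  exact ⟨_, h1, ap_idem hD he x, h2⟩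

theorem exists_val (hO : IsO h F Q) (hD : Fr D) (he : e ∈ D) (hr : 3 ≤ rk h e) (c : K) :
    ∃ v, v ≠ 0 ∧ h.ap e v = v ∧ Q v = c := by
  obtain ⟨x, h0, hx, hQ⟩ := exists_sing (Q := Q) hD he hr
  obtain ⟨y, hy, hyx⟩ := exists_partner hD he hx h0 1
  have h1 : h.b x x = 0 := by rw [SB.Tor.O_self hO, hQ, mul_zero]
  refine ⟨y + (c - Q y) • x, fun h2 => ?_, by rw [map_add, map_smul, hx, hy], ?_⟩
  · have h3 := h.add_left y ((c - Q y) • x) x
    rw [h2, h.zero_left, hyx, h.smul_left, h1, mul_zero, add_zero] at h3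
    exact zero_ne_one h3
  · rw [SB.Tor.O_add hO, QuadraticMap.map_smul, hQ, h.smul_right, hO.1, hyx]
    simp

theorem Q_cross (hO : IsO h F Q) (hs : star e = e) {x z : V} (hx : h.ap e x = x) (hz : h.ap e z = 0) :
    Q (x + z) = Q x + Q z := by rw [SB.Tor.O_add hO, b_cross hs hx hz, add_zero]

end Big

open Big

/-- **[C-Big], unitary groups** -/
theorem boxBigU : BoxBigU := by
  rintro K V _ _ _ _ _ h F q G H m p k c ⟨D, hD, hI, e, he, hr⟩
  have hs := hD.symm e he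
  obtain ⟨e₀, h0, h1, h2⟩ := exists_iso k.u hD he hr
  obtain ⟨f, hf, -, -, -, -, -, hfe⟩ := exists_pair hD he
  obtain ⟨u, hu, hn⟩ := exists_aniso k.u hD he
  have hτ := tau_self k.u.1 u
  obtain ⟨w, hw, hwu⟩ : ∃ w, h.ap e w = 0 ∧ h.b w w = h.b u u := by
    obtain ⟨w, hw, hn'⟩ := exists_aniso k.u hD hf
    obtain ⟨a, ha⟩ := exists_norm k.u hn' hτ
    exact ⟨a • w, by rw [map_smul, hfe w hw, smul_zero], ha⟩
  obtain ⟨a1, a2⟩ := b_diff hs hu hw hwu
  have b1 := qr_form h k.u.1 (κ := (h.b u u)⁻¹) (v := u - w) (by rw [map_inv₀, hτ, a1]; field_simp; ring)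
  have b2 := qr_form h k.u.1 (κ := 2 * (h.b u u)⁻¹) (v := u) (by rw [map_mul, map_inv₀, hτ, map_ofNat]; field_simp; ring)
  have hg' : ∀ x, h.ap (isoU h _ b1 * isoU h _ b2 : h.EBˣ) x =
      h.ap (qr h (h.b u u)⁻¹ (u - w)) (h.ap (qr h (2 * (h.b u u)⁻¹) u) x) := fun x => rfl
  have hg : isoU h _ b1 * isoU h _ b2 ∈ (⁅F.Iso, F.Iso⁆ : Subgroup _) :=
    k.mem_comm (mul_mem (mem_Iso_max k.L (isoU_ms _ _ _)) (mem_Iso_max k.L (isoU_ms _ _ _))) (by
      change LinearMap.det (h.ap (qr h (h.b u u)⁻¹ (u - w)) * h.ap (qr h (2 * (h.b u u)⁻¹) u)) = 1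
      rw [map_mul, det_qr, det_qr, a1]
      field_simp
      ring)
  generalize isoU h _ b1 * isoU h _ b2 = g at hg hg'
  have hu0 : u ≠ 0 := fun h0 => hn (by rw [h0, h.zero_left])
  obtain ⟨y, hy, c1, c2⟩ := swap c hD hI he h1 h2 hg hu0 hu (by
    rw [hg', ap_qr h _ u, mul_assoc, inv_mul_cancel₀ hn, map_sub, map_smul, ap_qr, a2, inv_mul_cancel₀ hn]
    simp [hw])
  rw [swap_vec hs hu hw hn hwu fun z hz => by rw [hg', ap_qr h _ u, b_cross' hs hu hz, mul_zero, zero_smul, sub_zero]]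
    at c2
  have c3 : h.b (h.ap y e₀) (h.ap y e₀) = 0 := by rw [iso_b hy, h2]
  refine ap_ne (u := y) h0 ?_
  generalize h.ap y e₀ = e' at c1 c2 c3
  by_cases c4 : h.b u e' = 0
  · obtain ⟨a, ha⟩ := exists_add_sigma_eq (IsU.tau_ne k.u) h.τ_τ hτ
    have c5 := c2 u 1 a hu c4 (k.eich c3 c4 (by rw [add_comm, ha])) u (Submodule.mem_span_singleton_self u)
    rw [c4, zero_smul, zero_sub, mul_zero, add_zero, one_mul, neg_mem_iff] at c5
    exact iso_span hn c3 hn c5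
  · obtain ⟨θ, hθ⟩ := k.u.2
    have c5 := c2 0 1 (h.τ θ - θ) (map_zero _) (h.zero_left _) (k.eich c3 (h.zero_left _)
      (by rw [map_sub, h.τ_τ, h.zero_left]; ring)) u (Submodule.mem_span_singleton_self u)
    rw [smul_zero, zero_sub, h.zero_right, mul_zero, zero_add, neg_mem_iff] at c5
    exact iso_span hn c3 (mul_ne_zero (sub_ne_zero.2 hθ) c4) c5

/-- **[C-Big], orthogonal groups** -/
theorem boxBigO : BoxBigO := by
  rintro K V _ _ _ _ _ h F Q G H m p k c ⟨D, hD, hI, e, he, hr⟩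
  have hs := hD.symm e he
  obtain ⟨e₀, h0, h1, h2⟩ := exists_sing (Q := Q) hD he hr
  have hE : ∀ u ∈ F.Iso, ∀ t, h.b t (h.ap u e₀) = 0 → ∃ s c : K, s ≠ 0 ∧ Eich h F (h.ap u e₀) t s c :=
    fun u hu t ht => ⟨1, _, one_ne_zero, k.eich (by rw [(SB.Tor.mem_Iso_O k.o u).1 hu, h2]) ht⟩
  obtain ⟨f, hf, z₁, z₂, hz₁, hz₂, hz, hfe⟩ := exists_pair hD he
  by_cases hK : (2 : K) = 0
  · have halt : ∀ v, h.b v v = 0 := fun v => by rw [SB.Tor.O_self k.o, hK, zero_mul]
    obtain ⟨x₁, hx0, hx₁, hQ⟩ := exists_val k.o hD he hr (-Q z₁)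
    obtain ⟨x₂, hx₂, hx⟩ := exists_partner hD he hx₁ hx0 1
    refine alt_false halt c hD hI he hr h0 h1 hE hx₁ hx₂ (hfe _ hz₁) (hfe _ hz₂) hx hz (a := Q (x₂ + z₂)) ?_
    rw [show (-1 : K) = 1 by linear_combination -hK]
    refine k.eich (by rw [Q_cross k.o hs hx₁ (hfe _ hz₁), hQ, neg_add_cancel]) ?_
    rw [h.add_left, h.add_right, h.add_right, hx, b_cross hs hx₂ (hfe _ hz₁), b_cross' hs hx₁ (hfe _ hz₂),
      SB.Tor.O_symm k.o, hz]
    linear_combination hK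
  obtain ⟨w, hw, hQw⟩ := SB.Tor.exists_nonsing k.o hD hf
  replace hw := hfe w hw
  obtain ⟨u, hu0, hu, hQu⟩ := exists_val k.o hD he hr (Q w)
  obtain ⟨u', -, hu', hQu'⟩ := exists_val k.o hD he hr (2 * Q w)
  have hb : h.b u u = 2 * Q w := by rw [SB.Tor.O_self k.o, hQu]
  have hn : h.b u u ≠ 0 := by rw [hb]; exact mul_ne_zero hK hQw
  have hwu : h.b w w = h.b u u := by rw [hb, SB.Tor.O_self k.o]
  have a1 : Q (u - w) = h.b u u := by
    rw [sub_eq_add_neg, Q_cross k.o hs hu (by rw [map_neg, hw, neg_zero]), QuadraticMap.map_neg, hQu, hb, two_mul]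
  have a2 : Q u' = h.b u u := hQu'.trans hb.symm
  obtain ⟨g, hg, hg'⟩ := k.mem_comm (k.good.refl_mul_refl_mem (v := u') (v' := u - w) (by rwa [a2]) (by rwa [a1])
    (a2.trans a1.symm))
  have a3 : ∀ x, h.ap g x = h.ap (qr h (h.b u u)⁻¹ (u - w)) (OrthCore.refl Q u' (by rwa [a2]) x) := fun x => by
    rw [hg', LinearEquiv.mul_apply, OrthCore.refl_apply (v := u - w), ap_qr, a1, k.o.2.1 _ (u - w),
      QuadraticMap.polar_comm]
  have a4 : ∀ x, OrthCore.refl Q u' (by rwa [a2]) x = x - ((Q u')⁻¹ * h.b x u') • u' := fun x => by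
    rw [OrthCore.refl_apply, k.o.2.1, QuadraticMap.polar_comm]
  obtain ⟨y, hy, c1, c2⟩ := swap c hD hI he h1 (by rw [SB.Tor.O_self k.o, h2, mul_zero]) hg
    (w := OrthCore.refl Q u' (by rwa [a2]) u) (by simpa using hu0) (by rw [a4, map_sub, map_smul, hu, hu']) (by
      rw [a3, ← LinearEquiv.mul_apply, OrthCore.refl_mul_self, LinearEquiv.coe_one, id, ap_qr, (b_diff hs hu hw hwu).2,
        inv_mul_cancel₀ hn]
      simp [hw])
  rw [swap_vec hs hu hw hn hwu fun z hz => by rw [a3, a4, b_cross' hs hu' hz, mul_zero, zero_smul, sub_zero]] at c2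
  obtain ⟨v, hv, hv'⟩ := exists_not_mem_two hD he hr u (h.ap y e₀)
  rw [Submodule.span_insert] at hv'
  refine hv' (mem_sup (ap_ne h0) ?_ ⟨u, Submodule.mem_span_singleton_self u, hu0⟩ ?_ (fun t ht hte => ?_) hv)
  · intro x hx
    obtain ⟨a, rfl⟩ := Submodule.mem_span_singleton.1 hx
    rw [map_smul, hu]
  · intro x hx hx'
    obtain ⟨a, rfl⟩ := Submodule.mem_span_singleton.1 hx
    have := hx' u (Submodule.mem_span_singleton_self u)
    rw [h.smul_right] at this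
    obtain rfl : a = 0 := by simpa [hn] using this
    rw [zero_smul]
  · obtain ⟨s, a, hs0, ha⟩ := hE y hy t hte
    exact ⟨s, a, hs0, c2 t s a ht hte ha⟩

/-- **[C-Big], symplectic groups** -/
theorem boxBigSp : BoxBigSp := by
  rintro K V _ _ _ _ _ h F j G H m p k c ⟨D, hD, hI⟩
  have : Module.Finite K V := Module.Finite.of_finite
  obtain ⟨e, he⟩ := Finset.card_pos.1 (lt_of_lt_of_le two_pos hD.two)
  have hs := hD.symm e he
  have halt := k.sp.2.1
  have hsw := IsSp.swap k.sp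
  obtain ⟨x₁, hx₁, hx0⟩ := SB.Tor.exists_fix (hD.idem e he) (hD.ne e he)
  obtain ⟨x₂, hx₂, hx⟩ := exists_partner hD he hx₁ hx0 1
  have hx' : h.b x₁ x₂ = -1 := by rw [hsw, hx]
  obtain ⟨f, hf, z₁, z₂, hz₁, hz₂, hz, hfe⟩ := exists_pair hD he
  replace hz₁ := hfe _ hz₁
  replace hz₂ := hfe _ hz₂
  by_cases hr : 3 ≤ rk h e
  · refine alt_false halt c hD hI he hr hx0 hx₁ (fun u _ t ht => ⟨-1, 0, neg_ne_zero.2 one_ne_zero, k.eich ht 0⟩)
      hx₁ hx₂ hz₁ hz₂ hx hz (a := 0) (k.eich ?_ 0)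
    rw [h.add_left, h.add_right, h.add_right, hx, b_cross hs hx₂ hz₁, b_cross' hs hx₁ hz₂, hsw z₁ z₂, hz]
    ring
  have hind : SB.Tor.Ind K x₁ x₂ := fun a b hab => by
    have a1 := congrArg (h.b · x₁) hab
    have a2 := congrArg (h.b · x₂) hab
    simp only [h.add_left, h.smul_left, halt, hx, hx', h.zero_left] at a1 a2
    exact ⟨by linear_combination -a2, by linear_combination a1⟩
  have hr2 : rk h e = 2 := by
    have a1 : LinearIndependent K ![(⟨x₁, x₁, hx₁⟩ : LinearMap.range (h.ap e)), ⟨x₂, x₂, hx₂⟩] :=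
      LinearIndependent.pair_iff.2 fun a b hab => hind a b (congrArg Subtype.val hab)
    have a2 : 2 ≤ rk h e := (Fintype.card_fin 2).ge.trans a1.fintype_card_le_finrank
    omega
  obtain ⟨z, z', hz0, hz0', hzz, hzi⟩ : ∃ z z', h.ap e z = 0 ∧ h.ap e z' = 0 ∧ h.b z z' ≠ 1 ∧ SB.Tor.Ind K z z' := by
    have hz1 : z₁ ≠ 0 := fun h0 => by
      rw [h0, h.zero_left] at hz
      exact zero_ne_one hz
    by_cases hj : j = 2
    · obtain ⟨μ, h0, h1⟩ : ∃ μ : K, μ ≠ 0 ∧ μ ≠ 1 := by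
        classical
        by_contra hcon
        push Not at hcon
        have a1 : (Finset.univ : Finset K) ⊆ {0, 1} := fun a _ => by
          by_cases ha : a = 0
          · simp [ha]
          · simp [hcon a ha]
        have a2 := (Finset.card_le_card a1).trans Finset.card_le_two
        have a3 := k.ne hj
        rw [Finset.card_univ] at a2
        omega
      refine ⟨z₁, μ • z₂, hz₁, by rw [map_smul, hz₂, smul_zero], by rwa [h.smul_right, k.sp.1, hz, mul_one],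
        SB.Tor.ind_of_ne hz1 fun a ha => h0 ?_⟩
      have a1 := congrArg (h.b z₁) ha
      rwa [h.smul_right, h.smul_right, halt, hz, mul_zero, mul_one, k.sp.1] at a1
    · have a1 := LinearMap.finrank_range_add_finrank_ker (h.ap e)
      have a2 := k.dim
      have a3 := k.two
      have a4 : finrank K (LinearMap.range (h.ap e)) = 2 := hr2
      obtain ⟨v, hv, hv'⟩ : ∃ v, h.ap e v = 0 ∧ v ∉ Submodule.span K {z₁, z₂} := by
        by_contra hcon
        push Not at hcon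
        have a5 := (Submodule.finrank_mono (s := LinearMap.ker (h.ap e)) hcon).trans (finrank_two_le z₁ z₂)
        omega
      refine ⟨z₁, v - h.b z₁ v • z₂, hz₁, by rw [map_sub, map_smul, hv, hz₂, smul_zero, sub_zero], ?_,
        SB.Tor.ind_of_ne hz1 fun a ha => hv' (Submodule.mem_span_pair.2 ⟨a, h.b z₁ v, by rw [← ha, sub_add_cancel]⟩)⟩
      rw [h.sub_right, h.smul_right, k.sp.1, hz, mul_one, sub_self]
      exact zero_ne_one
  obtain ⟨r, hr1, hr'⟩ := k.eich (e := z) (t := x₂) (b_cross hs hx₂ hz0) 0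
  obtain ⟨r', hr1', hr''⟩ := k.eich (e := z') (t := x₁) (b_cross hs hx₁ hz0') 0
  have g0 : ∀ a b : K, h.ap (r' * r : h.EBˣ) (a • x₁ + b • x₂) =
      (a * (1 - h.b z z')) • x₁ + b • x₂ + ((-a) • z + b • z') := fun a b => by
    simp only [Units.val_mul, h.ap_mul, hr', hr'', h.add_left, h.sub_left, h.smul_left, halt, hx, hx',
      b_cross hs hx₁ hz0, b_cross hs hx₂ hz0, b_cross hs hx₁ hz0', b_cross hs hx₂ hz0', b_cross' hs hx₁ hz0]
    module
  obtain ⟨u, hu, b1, b2⟩ := keyF c hD hI he hx₁ (halt _) (mul_mem hr1' hr1)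
  have b0 := ap_ne (h := h) (u := u) hx0
  generalize h.ap u x₁ = e' at b0 b1 b2
  generalize r' * r = g at g0 b2
  obtain ⟨w, hw0, hw, hw'⟩ : ∃ w, w ≠ 0 ∧ h.ap e w = w ∧ h.b (h.ap g w) e' = 0 := by
    by_cases b3 : h.b (h.ap g x₁) e' = 0
    · exact ⟨x₁, hx0, hx₁, b3⟩
    · refine ⟨h.b (h.ap g x₂) e' • x₁ + (-h.b (h.ap g x₁) e') • x₂, fun h0 => b3 (neg_eq_zero.1 (hind _ _ h0).2),
        by rw [map_add, map_smul, map_smul, hx₁, hx₂], ?_⟩
      rw [map_add, map_smul, map_smul, h.add_left, h.smul_left, h.smul_left]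
      ring
  have b3 : ∀ x, h.ap e x = x → h.b (h.ap g x) e' = 0 := fun x hxe => by
    obtain ⟨x', b4, b5⟩ := (b2 0 (-1) 1 (map_zero _) (h.zero_left _) (k.eich (h.zero_left _) 1) w hw0 hw hw'
      (h.zero_right _)).2 x hxe
    obtain ⟨a, b, hab⟩ := SB.Tor.span_two hr2 hx₁ hx₂ hind (z := x - x') (by rw [map_sub, hxe, b4])
    rw [smul_zero, add_zero, h.zero_right, mul_zero, zero_add, one_mul, sub_eq_iff_eq_add', ← sub_eq_iff_eq_add,
      ← map_sub, ← hab, g0] at b5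
    have b6 := congrArg (h.ap e) b5
    simp only [map_add, map_smul, hx₁, hx₂, hz0, hz0', b1, smul_zero, add_zero] at b6
    rw [b6, add_eq_left] at b5
    obtain ⟨b7, rfl⟩ := hzi _ _ b5
    rw [neg_eq_zero.1 b7, zero_mul, zero_smul, zero_smul, add_zero] at b6
    exact (smul_eq_zero_iff_left b0).1 b6.symm
  obtain ⟨y, hy, hy'⟩ := exists_partner hD he b1 b0 1
  obtain ⟨a, b, rfl⟩ := SB.Tor.span_two hr2 hx₁ hx₂ hind hy
  have b4 := b3 ((a / (1 - h.b z z')) • x₁ + b • x₂) (by rw [map_add, map_smul, map_smul, hx₁, hx₂])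
  rw [g0, div_mul_cancel₀ _ (sub_ne_zero.2 hzz.symm), h.add_left, hy',
    b_cross' hs b1 (by rw [map_add, map_smul, map_smul, hz0, hz0', smul_zero, smul_zero, add_zero]), add_zero] at b4
  exact one_ne_zero b4

end Cfsg.Agent.TH.Cl
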