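import Cfsg.Agent.TH.Cl.Basic
import Cfsg.Agent.SB.Tor.U3d
import Cfsg.Agent.SB.Tor.LExt
import Cfsg.Agent.SB.Tor.Refl

/-!
# S3541, classical socles: elements of the commutator group of the isometry group (helper57)

`KL.mem_comm`, `KU.mem_comm` (determinant one), `KSp.mem_comm` (all isometries), `KO.mem_comm` (the group `E Q`
generated by the Siegel transformations); Eichler transformations `KU.eich`, `KSp.eich`, `KO.eich`.
-/

set_option autoImplicit false
set_option linter.unusedSectionVars false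

namespace Cfsg.Agent.TH.Cl

open Cfsg.Agent.DS.Cl Cfsg.Agent.DS.Cl.Fwd Cfsg.Agent.SB.Cl Module
open Cfsg.Agent.SB.Fld (prL)
open Cfsg.Agent.LieClassical
open scoped Matrix

section ring

variable {A : Type} [Ring A] [StarRing A] {F : FR A}

theorem conj_mem_comm {u y : Aˣ} (hu : u ∈ F.Iso) (hy : y ∈ (⁅F.Iso, F.Iso⁆ : Subgroup Aˣ)) :
    u * y * u⁻¹ ∈ (⁅F.Iso, F.Iso⁆ : Subgroup Aˣ) := by
  have h1 := FR.um_mem_comm (FR.cj_mem_Aut hu) hy
  have h2 : um (DS.Cl.cj A u) y = u * y * u⁻¹ := Units.ext rfl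
  rwa [h2] at h1

theorem cj_mem_S {y : Aˣ} (hy : y ∈ (⁅F.Iso, F.Iso⁆ : Subgroup Aˣ)) : DS.Cl.cj A y ∈ F.S := ⟨y, hy, rfl⟩

end ring

variable {K V : Type} [Field K] [Fintype K] [AddCommGroup V] [Module K V] [Finite V]

section L

variable {n : ℕ} {F : FR (LR (Fin n) K)}

theorem KL.mem_comm (k : KL F) {u : (LR (Fin n) K)ˣ} (hu : u ∈ F.Iso) (hd : LinearMap.det (prL n K u) = 1) :
    u ∈ (⁅F.Iso, F.Iso⁆ : Subgroup _) := (SB.Tor.mem_comm_iff k.dim F u).2 ⟨hu, hd⟩

/-- the lift of an element of determinant one -/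
theorem KL.exists_lift (k : KL F) {w : End K (Fin n → K)} (hd : LinearMap.det w = 1) :
    ∃ u ∈ (⁅F.Iso, F.Iso⁆ : Subgroup (LR (Fin n) K)ˣ), prL n K u = w := by
  obtain ⟨M, hM⟩ := (Matrix.isUnit_iff_isUnit_det (LinearMap.toMatrix' w)).2
    (by rw [LinearMap.det_toMatrix', hd]; exact isUnit_one)
  have h1 : prL n K (LR.gl M) = w := by
    change Matrix.toLin' (M : Matrix (Fin n) (Fin n) K) = w
    rw [hM, Matrix.toLin'_toMatrix']
  exact ⟨LR.gl M, k.mem_comm (mem_Iso_max (F.L_eq SB.Tor.eps_LR.cen SB.Tor.eps_LR.add) ((LR.mem_gl _).1 ⟨M, rfl⟩))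
    (by rw [h1, hd]), h1⟩

theorem prL_sep (a : LR (Fin n) K) (h1 : prL n K a = 0) (h2 : prL n K (star a) = 0) : a = 0 :=
  SB.Fld.luL.sep a h1 h2

end L

variable {h : HF K V} {F : FR h.EB}

theorem IsU.tau_ne (hU : IsU h) : h.τ ≠ RingHom.id K := fun h0 => by
  obtain ⟨y, hy⟩ := hU.2
  exact hy (by rw [h0]; rfl)

theorem KU.mem_comm {q : ℕ} (k : KU h F q) {u : h.EBˣ} (hu : u ∈ F.Iso) (hd : LinearMap.det (h.ap u) = 1) :
    u ∈ (⁅F.Iso, F.Iso⁆ : Subgroup _) := by
  have : Module.Finite K V := Module.Finite.of_finite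
  let B : V →ₛₗ[h.τ] V →ₗ[K] K := LinearMap.mk₂'ₛₗ h.τ (RingHom.id K) (fun v w => h.b w v)
    (fun _ _ _ => h.add_right _ _ _) (fun _ _ _ => h.smul_right _ _ _) (fun _ _ _ => h.add_left _ _ _)
    fun _ _ _ => h.smul_left _ _ _
  obtain ⟨c, hc⟩ := ClassicalGeometry.HermOrthonormal.exists_orthonormal_basis (IsU.tau_ne k.u) h.τ_τ B
    ⟨fun v w => by
      change h.τ (h.b w v) = h.b v w
      rw [h.swap w v, k.u.1, one_mul]⟩ fun v hv => h.nondeg v hv
  refine SB.Tor.su_le_comm k.u F k.dim (fun e h4 => k.ne ⟨e, ?_⟩) c (fun i j => ?_) hu hd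
  · rw [Nat.card_eq_fintype_card, k.card] at h4
    exact Nat.pow_left_injective two_ne_zero (show q ^ 2 = 2 ^ 2 from h4)
  · rw [show h.b (c i) (c j) = B (c j) (c i) from rfl, hc]
    simp only [eq_comm]

theorem KSp.mem_comm {j : ℕ} (k : KSp h F j) {u : h.EBˣ} (hu : u ∈ F.Iso) : u ∈ (⁅F.Iso, F.Iso⁆ : Subgroup _) := by
  have : Module.Finite K V := Module.Finite.of_finite
  let B : LinearMap.BilinForm K V := LinearMap.mk₂ K h.b h.add_left h.smul_left h.add_right fun c u v => by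
    rw [h.smul_right, k.sp.1, smul_eq_mul]
  obtain ⟨e, he⟩ := ClassicalGeometry.SympIso.exists_linearEquiv_sympForm B k.sp.2.1
    (fun v hv => h.nondeg v fun w => by rw [h.swap v w, show h.b v w = 0 from hv w, map_zero, mul_zero]) k.dim
  let ψ : Matrix (Fin j ⊕ Fin j) (Fin j ⊕ Fin j) K →* h.EB :=
    { toFun := fun M => h.eb (e.toLinearMap ∘ₗ Matrix.toLin' M ∘ₗ e.symm.toLinearMap)
      map_one' := h.ap_ext fun v => by simp [h.ap_eb, h.ap_one]
      map_mul' := fun M N => h.ap_ext fun v => by simp [h.ap_eb, h.ap_mul] }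
  have h2 : ∀ M v, h.ap (ψ M) (e v) = e (M *ᵥ v) := fun M v => by
    change e (M *ᵥ e.symm (e v)) = _
    rw [e.symm_apply_apply]
  let φ : Matrix.symplecticGroup (Fin j) K →* h.EBˣ := (ψ.comp (Matrix.symplecticGroup (Fin j) K).subtype).toHomUnits
  have hle : φ.range ≤ F.Iso := by
    rintro _ ⟨M, rfl⟩
    refine mem_Iso_max k.sp.2.2 ((h.unit_iff _).2 fun x y => ?_)
    obtain ⟨x, rfl⟩ := e.surjective x
    obtain ⟨y, rfl⟩ := e.surjective y
    exact (congrArg₂ _ (h2 _ x) (h2 _ y)).trans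
      ((he _ _).trans ((ClassicalGeometry.SympBasic.sympForm_mulVec M.2 x y).trans (he x y).symm))
  refine Subgroup.commutator_mono hle hle ?_
  rw [comm_range, SympPerfect.commutator_eq_top (by
    have := k.two
    by_cases h2 : j = 2
    · exact Or.inr (Or.inl ⟨h2, k.ne h2⟩)
    · exact Or.inl (by omega)), ← MonoidHom.range_eq_map]
  have h3 : ∀ v, LinearMap.toMatrix' (e.symm.toLinearMap ∘ₗ h.ap u ∘ₗ e.toLinearMap) *ᵥ v = e.symm (h.ap u (e v)) :=
    fun v => LinearMap.toMatrix'_mulVec _ v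
  refine ⟨⟨LinearMap.toMatrix' (e.symm.toLinearMap ∘ₗ h.ap u ∘ₗ e.toLinearMap),
    ClassicalGeometry.SympBasic.mem_symplecticGroup_iff.2 fun x y => ?_⟩, Units.ext (h.ap_ext fun v => ?_)⟩
  · rw [h3, h3, ← he, ← he, e.apply_symm_apply, e.apply_symm_apply]
    exact (h.unit_iff u).1 hu.1 _ _
  · obtain ⟨v, rfl⟩ := e.surjective v
    exact (h2 _ v).trans ((congrArg e (h3 v)).trans (e.apply_symm_apply _))

theorem KO.good {Q : QuadraticForm K V} (k : KO h F Q) : OrthTrans.Good Q :=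
  have : Module.Finite K V := Module.Finite.of_finite
  OrthFinite.good_of_finite (fun x hx => h.nondeg x fun y => by rw [k.o.2.1, QuadraticMap.polar_comm, hx])
    (le_trans (by norm_num) k.dim)

theorem KO.mem_comm {Q : QuadraticForm K V} (k : KO h F Q) {g : V ≃ₗ[K] V} (hg : g ∈ OrthCore.E Q) :
    ∃ u ∈ (⁅F.Iso, F.Iso⁆ : Subgroup h.EBˣ), ∀ v, h.ap u v = g v := by
  let ψ₀ : (V ≃ₗ[K] V) →* h.EB :=
    { toFun := fun g => h.eb g
      map_one' := rfl
      map_mul' := fun _ _ => rfl }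
  have hle : (OrthCore.O Q).map ψ₀.toHomUnits ≤ F.Iso := by
    rintro _ ⟨g, hg, rfl⟩
    exact (SB.Tor.mem_Iso_O k.o _).2 hg
  refine ⟨ψ₀.toHomUnits g, Subgroup.commutator_mono hle hle ?_, fun v => rfl⟩
  rw [← Subgroup.map_commutator, k.good.commutator_eq_E]
  exact ⟨g, hg, rfl⟩

/-! ### Eichler transformations -/

variable (h F) in
/-- the map `x ↦ x + b(x,e) t - (s b(x,t) + c b(x,e)) e` lies in the commutator group of the isometry group -/
def Eich (e t : V) (s c : K) : Prop :=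
  ∃ y ∈ (⁅F.Iso, F.Iso⁆ : Subgroup h.EBˣ), ∀ x, h.ap y x = x + h.b x e • t - (s * h.b x t + c * h.b x e) • e

variable (h) in
/-- the endomorphism -/
def eich (e t : V) (s c : K) : h.EB := h.eb (1 + h.ro t e - s • h.ro e t - c • h.ro e e)

theorem ap_eich (e t : V) (s c : K) (x : V) :
    h.ap (eich h e t s c) x = x + h.b x e • t - (s * h.b x t + c * h.b x e) • e := by
  change x + h.b x e • t - s • h.b x t • e - c • h.b x e • e = _
  rw [add_smul, smul_smul, smul_smul, sub_sub]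

theorem eich_form {e t : V} {s c : K} (hs : ∀ u v, h.b v u = s * h.τ (h.b u v)) (h1 : s * s = 1) (h2 : h.τ s = s)
    (he : h.b e e = 0) (ht : h.b t e = 0) (hc : h.τ c + s * c = h.b t t) (x y : V) :
    h.b (h.ap (eich h e t s c) x) (h.ap (eich h e t s c) y) = h.b x y := by
  have ht' : h.b e t = 0 := by rw [hs, ht, map_zero, mul_zero]
  simp only [ap_eich, h.sub_left, h.sub_right, h.add_left, h.add_right, h.smul_left, h.smul_right, he, ht, ht',
    hs y t, hs y e, map_add, map_mul, h2, ← hc]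
  linear_combination (-(h.τ (h.b y e) * h.b x t)) * h1

theorem det_eich {e t : V} (he : h.b e e = 0) (ht : h.b t e = 0) (ht' : h.b e t = 0) (s c : K) :
    LinearMap.det (h.ap (eich h e t s c)) = 1 := by
  have : Module.Finite K V := Module.Finite.of_finite
  have h1 : h.ap (eich h e t s c) = LinearMap.transvection (-(s • h.lin t + (c - s * h.b t t) • h.lin e)) e *
      LinearMap.transvection (h.lin e) t := by
    refine LinearMap.ext fun x => ?_
    rw [ap_eich, End.mul_apply, LinearMap.transvection.apply, LinearMap.transvection.apply, sub_eq_add_neg, ← neg_smul]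
    congr 2
    change _ = -(s * h.b (x + h.b x e • t) t + (c - s * h.b t t) * h.b (x + h.b x e • t) e)
    rw [h.add_left, h.add_left, h.smul_left, h.smul_left, ht]
    ring
  rw [h1, map_mul, LinearMap.transvection.det, LinearMap.transvection.det]
  change (1 + -(s * h.b e t + (c - s * h.b t t) * h.b e e)) * (1 + h.b t e) = 1
  rw [he, ht, ht']
  ring

theorem IsU.swap (hU : IsU h) (u v : V) : h.b v u = h.τ (h.b u v) := by rw [h.swap u v, hU.1, one_mul]

theorem IsSp.swap (hS : IsSp h F) (u v : V) : h.b v u = -h.b u v := by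
  have h1 := hS.2.1 (u + v)
  rw [h.add_left, h.add_right, h.add_right, hS.2.1, hS.2.1] at h1
  linear_combination h1

theorem KU.eich {q : ℕ} (k : KU h F q) {e t : V} {c : K} (he : h.b e e = 0) (ht : h.b t e = 0)
    (hc : h.τ c + c = h.b t t) : Eich h F e t 1 c :=
  ⟨SB.Tor.isoU h _ (eich_form (fun u v => by rw [one_mul, IsU.swap k.u]) (one_mul 1) (map_one _) he ht
      (by rwa [one_mul])),
    k.mem_comm (mem_Iso_max k.L (SB.Tor.isoU_ms _ _ _)) (det_eich he ht (by rw [IsU.swap k.u, ht, map_zero]) _ _),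
    ap_eich e t 1 c⟩

theorem KSp.eich {j : ℕ} (k : KSp h F j) {e t : V} (ht : h.b t e = 0) (c : K) : Eich h F e t (-1) c :=
  ⟨SB.Tor.isoU h _ (eich_form (fun u v => by rw [k.sp.1, IsSp.swap k.sp, neg_one_mul]) (by ring) (k.sp.1 _)
      (k.sp.2.1 e) ht (by rw [k.sp.1, k.sp.2.1]; ring)),
    k.mem_comm (mem_Iso_max k.sp.2.2 (SB.Tor.isoU_ms _ _ _)), ap_eich e t (-1) c⟩

theorem KO.eich {Q : QuadraticForm K V} (k : KO h F Q) {e t : V} (he : Q e = 0) (ht : h.b t e = 0) :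
    Eich h F e t 1 (Q t) := by
  have ht' : QuadraticMap.polar Q e t = 0 := by rw [QuadraticMap.polar_comm, ← k.o.2.1, ht]
  obtain ⟨u, hu, h1⟩ := k.mem_comm (OrthCore.siegel_mem_E he ht')
  refine ⟨u, hu, fun x => ?_⟩
  rw [h1, OrthCore.siegel_apply, k.o.2.1, k.o.2.1, QuadraticMap.polar_comm Q x e, QuadraticMap.polar_comm Q x t,
    one_mul, add_smul, sub_sub]

end Cfsg.Agent.TH.Cl
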