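import Cfsg.Agent.TH.Cl.Big.Mem
import Cfsg.Agent.DS.Cl.Blk

/-!
# S3541, classical socles: UNI for an invariant frame (helper57)
-/

set_option autoImplicit false
set_option linter.unusedSectionVars false

namespace Cfsg.Agent.TH.Cl.Big

open Cfsg.Agent.DS.Cl Cfsg.Agent.DS.Cl.Fwd Cfsg.Agent.SB.Cl Module

variable {A : Type} [Ring A] [StarRing A] {K V : Type} [Field K] [AddCommGroup V] [Module K V]
  {F : FR A} {G H : Subgroup (RingAut A)} {m p : ℕ} {D : Finset A}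

/-- **UNI for frames**: a conjugate of the `p`-group `U` preserves the frame `g D` -/
theorem uni_frame [Finite A] (c : Ctx F G H m p) (hI : Inv H D) {U : Subgroup Aˣ}
    (hU : ∀ y ∈ U, y ∈ F.Iso → ∃ k, y ^ p ^ k = 1) {g : Aˣ} (hg : g ∈ (⁅F.Iso, F.Iso⁆ : Subgroup Aˣ)) :
    ∃ u ∈ F.Iso, (∀ d ∈ D, (u : A) * d = d * u) ∧ ∀ y ∈ (⁅F.Iso, F.Iso⁆ : Subgroup Aˣ), u⁻¹ * y * u ∈ U →
      (∀ d ∈ D, (y : A) * d = d * y) → ∀ d ∈ D, ∃ d' ∈ D, ((g⁻¹ * y * g : Aˣ) : A) * d = d' * (g⁻¹ * y * g : Aˣ) := by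
  have hc : ∀ (z : Aˣ) (a : A), (z : A) * a = DS.Cl.cj A z a * z := fun z a => (cj_mul_eq z a).symm
  by_cases hS : Inv F.S D
  · refine ⟨1, one_mem _, fun d _ => by rw [Units.val_one, one_mul, mul_one], fun y hy _ _ d hd => ⟨_, ?_, hc _ d⟩⟩
    exact hS _ (cj_mem_S (mul_mem (mul_mem (inv_mem hg) hy) hg)) d hd
  let B : Subgroup (RingAut A) := H ⊓ (F.S ⊓ DS.Cl.Fix (D : Set A))
  have hBn : ∀ a ∈ H, ∀ x ∈ B, a * x * a⁻¹ ∈ B := fun a ha x hx =>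
    ⟨H.mul_mem (H.mul_mem ha hx.1) (H.inv_mem ha), FR.conj_mem_S (c.H_le_Aut ha) hx.2.1, fun d hd => by
      rw [ra_mul, ra_mul, hx.2.2 _ (hI _ (H.inv_mem ha) d hd), ra_apply_inv]⟩
  obtain ⟨b, hb, h1⟩ := c.uni (M := B) (B := B) (Y := B ⊓ (U ⊓ F.Iso).map (DS.Cl.cj A)) inf_le_left hBn le_rfl
    (fun a ha => hBn a ha.1) (by
      rintro ⟨_, h0, y, hy, rfl⟩
      obtain ⟨k, hk⟩ := hU y hy.1 hy.2
      exact ⟨k, Subtype.ext (by
        change DS.Cl.cj A y ^ p ^ k = 1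
        rw [← map_pow, hk, map_one])⟩) inf_le_left (c.S_le (cj_mem_S hg))
  obtain ⟨u, hu, rfl⟩ := F.S_le_PI hb.2.1
  have hu2 : ∀ d ∈ D, (u : A) * d = d * u := fun d hd => by rw [hc, hb.2.2 d hd]
  refine ⟨u, hu, hu2, fun y hy hyU hyD d hd => ⟨_, ?_, hc _ d⟩⟩
  have h2 : u⁻¹ * y * u ∈ (⁅F.Iso, F.Iso⁆ : Subgroup Aˣ) := by
    have := conj_mem_comm (inv_mem hu) hy
    rwa [inv_inv] at this
  have h3 : ∀ d ∈ D, DS.Cl.cj A (u⁻¹ * y * u) d = d := fun d hd => by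
    have b1 : DS.Cl.cj A u d = d := cj_eq_of_mul (hu2 d hd)
    rw [map_mul, map_mul, ra_mul, ra_mul, b1, cj_eq_of_mul (hyD d hd), map_inv]
    nth_rewrite 1 [← b1]
    rw [ra_inv_apply]
  have h4 : DS.Cl.cj A (u⁻¹ * y * u) ∈ H := c.mem_of_inv hI hS (c.S_le (cj_mem_S h2)) fun d hd => by
    rw [h3 d hd]; exact hd
  have h5 := h1 (TH.conj_mem_cj (DS.Cl.cj A u) (x := DS.Cl.cj A (u⁻¹ * y * u))
    ⟨⟨h4, cj_mem_S h2, h3⟩, _, ⟨hyU, FR.comm_le_Iso h2⟩, rfl⟩)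
  rw [TH.mem_cj, ← map_inv, ← map_inv, ← map_mul, ← map_mul, ← map_mul, ← map_mul,
    show u * (u⁻¹ * y * u) * u⁻¹ = y by group] at h5
  exact hI _ h5 d hd

variable (π : A →+* End K V)

theorem pi_mul (a b : A) (x : V) : π (a * b) x = π a (π b x) := by rw [map_mul, End.mul_apply]

theorem pi_inv (u : Aˣ) (x : V) : π (u⁻¹ : Aˣ) (π u x) = x := by
  rw [← pi_mul, Units.inv_mul, map_one, End.one_apply]

theorem pi_inv' (u : Aˣ) (x : V) : π u (π (u⁻¹ : Aˣ) x) = x := by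
  rw [← pi_mul, Units.mul_inv, map_one, End.one_apply]

/-- the units acting trivially on `V / W`, `W / ⟨e⟩`, `⟨e⟩` -/
def rad (e : V) (W : Submodule K V) : Subgroup Aˣ where
  carrier := {y | π y e = e ∧ (∀ x ∈ W, π y x - x ∈ K ∙ e) ∧ ∀ x, π y x - x ∈ W}
  one_mem' := by simp
  mul_mem' := by
    rintro y z ⟨a1, a2, a3⟩ ⟨b1, b2, b3⟩
    have h : ∀ x, π (y * z : Aˣ) x - x = (π y (π z x) - π z x) + (π z x - x) := fun x => by
      rw [Units.val_mul, pi_mul, sub_add_sub_cancel]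
    refine ⟨by rw [Units.val_mul, pi_mul, b1, a1], fun x hx => ?_, fun x => ?_⟩
    · rw [h]
      exact add_mem (a2 _ (by simpa using W.add_mem (b3 x) hx)) (b2 x hx)
    · rw [h]
      exact add_mem (a3 _) (b3 x)
  inv_mem' := by
    rintro y ⟨a1, a2, a3⟩
    have h : ∀ x, π (y⁻¹ : Aˣ) x - x = -(π y (π (y⁻¹ : Aˣ) x) - π (y⁻¹ : Aˣ) x) := fun x => by rw [pi_inv', neg_sub]
    have h3 : ∀ x, π (y⁻¹ : Aˣ) x - x ∈ W := fun x => by
      rw [h]
      exact neg_mem (a3 _)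
    refine ⟨by nth_rewrite 1 [← a1]; rw [pi_inv], fun x hx => ?_, h3⟩
    rw [h]
    exact neg_mem (a2 _ (by simpa using W.add_mem (h3 x) hx))

variable {π}

theorem rad_pow (hsep : ∀ a, π a = 0 → π (star a) = 0 → a = 0) (hp : p.Prime) (h0 : (p : A) = 0) {e : V}
    {W : Submodule K V} {y : Aˣ} (hy : y ∈ rad π e W) (hy' : y ∈ F.Iso) : y ^ p ^ 2 = 1 := by
  obtain ⟨a1, a2, a3⟩ := hy
  have h1 : (π y - 1) ^ 3 = 0 := LinearMap.ext fun x => by
    obtain ⟨t, ht⟩ := Submodule.mem_span_singleton.1 (a2 _ (a3 x))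
    change π y (π y (π y x - x) - (π y x - x)) - (π y (π y x - x) - (π y x - x)) = 0
    rw [← ht, map_smul, a1, sub_self]
  have h2 : π ((y ^ p ^ 2 : Aˣ) : A) = 1 := by
    obtain ⟨r, hr⟩ := (Commute.one_left (π y - 1)).exists_add_pow_prime_pow_eq hp 2
    have h3 : (p : End K V) = 0 := by rw [← map_natCast π, h0, map_zero]
    have h4 : 3 ≤ p ^ 2 := le_trans (by norm_num) (Nat.pow_le_pow_left hp.two_le 2)
    rw [add_sub_cancel, one_pow, pow_eq_zero_of_le h4 h1, h3, zero_mul, zero_mul, zero_mul, add_zero, add_zero] at hr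
    rw [Units.val_pow_eq_pow_val, map_pow, hr]
  have h3 := congrArg π (pow_mem hy' (p ^ 2)).1
  rw [map_mul, h2, one_mul] at h3
  exact Units.ext (sub_eq_zero.1 (hsep _ (by rw [map_sub, h2, Units.val_one, map_one, sub_self])
    (by rw [star_sub, map_sub, h3, Units.val_one, star_one, sub_self])))

theorem comm_of_pi (hsep : ∀ a, π a = 0 → π (star a) = 0 → a = 0) {y : Aˣ} (hy : y ∈ F.Iso) {d : A} (hd : star d = d)
    (h : ∀ x, π y (π d x) = π d (π y x)) : (y : A) * d = d * y := by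
  refine sub_eq_zero.1 (hsep _ ?_ ?_)
  · rw [map_sub, sub_eq_zero]
    exact LinearMap.ext fun x => by rw [pi_mul, pi_mul, h]
  · rw [star_sub, star_mul, star_mul, hd, ← FR.Iso.inv_eq hy, map_sub, sub_eq_zero]
    refine LinearMap.ext fun x => ?_
    rw [pi_mul, pi_mul, ← pi_inv π y (π d _), h, pi_inv']

theorem pi_orth (hD : Fr D) {d d' : A} (hd : d ∈ D) (hd' : d' ∈ D) (h : d ≠ d') (x : V) : π d (π d' x) = 0 := by
  rw [← pi_mul, hD.orth d hd d' hd' h, map_zero, LinearMap.zero_apply]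

theorem pi_idem (hD : Fr D) {d : A} (hd : d ∈ D) (x : V) : π d (π d x) = π d x := by rw [← pi_mul, hD.idem d hd]

/-- a non-zero vector of another block -/
theorem exists_other (hsep : ∀ a, π a = 0 → π (star a) = 0 → a = 0) (hD : Fr D) (e : A) :
    ∃ f ∈ D, f ≠ e ∧ ∃ w, w ≠ 0 ∧ π f w = w := by
  obtain ⟨f, hf, hfe⟩ := Finset.exists_mem_ne (lt_of_lt_of_le one_lt_two hD.two) e
  by_contra hcon
  push Not at hcon
  have h1 : π f = 0 := LinearMap.ext fun x => not_not.1 fun h0 => hcon f hf hfe _ h0 (pi_idem hD hf x)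
  exact hD.ne f hf (hsep f h1 (by rw [hD.symm f hf, h1]))

/-- **the key lemma** -/
theorem key [Finite A] (hsep : ∀ a, π a = 0 → π (star a) = 0 → a = 0) (c : Ctx F G H m p) (hD : Fr D) (hI : Inv H D)
    {e : A} (he : e ∈ D) (e₀ : V) (W : Submodule K V) {g : Aˣ} (hg : g ∈ (⁅F.Iso, F.Iso⁆ : Subgroup Aˣ)) :
    ∃ u ∈ F.Iso, (∀ x, π e (π u x) = π u (π e x)) ∧ ∀ y ∈ (⁅F.Iso, F.Iso⁆ : Subgroup Aˣ),
      π y (π u e₀) = π u e₀ → (∀ x ∈ W, π y (π u x) - π u x ∈ K ∙ π u e₀) →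
      (∀ x, ∃ z ∈ W, π y x - x = π u z) → (∀ x, π e (π y x - x) = π y x - x) → (∀ x, π e x = 0 → π y x = x) →
      ∀ w, w ≠ 0 → π e w = w → π y (π g w) = π g w →
        (∀ x, π e x = 0 → ∃ x', π e x' = 0 ∧ π y (π g x) = π g x') ∧
        ∀ x, π e x = x → ∃ x', π e x' = x' ∧ π y (π g x) = π g x' := by
  obtain ⟨u, hu, h1, h2⟩ := uni_frame c hI (U := rad π e₀ W)
    (fun y hy hy' => ⟨2, rad_pow hsep c.prime c.char hy hy'⟩) hg
  refine ⟨u, hu, fun x => by rw [← pi_mul, ← pi_mul, h1 e he], fun y hy a1 a2 a3 a4 a5 w hw0 hw hyw => ?_⟩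
  have hz : ∀ (a : Aˣ) x, π (a⁻¹ * y * a : Aˣ) x = π (a⁻¹ : Aˣ) (π y (π a x)) := fun a x => by
    rw [Units.val_mul, Units.val_mul, pi_mul, pi_mul]
  have hz' : ∀ x, π (u⁻¹ * y * u : Aˣ) x - x = π (u⁻¹ : Aˣ) (π y (π u x) - π u x) := fun x => by
    rw [hz, map_sub, pi_inv]
  obtain ⟨d', hd', h3⟩ := h2 y hy ⟨by rw [hz, a1, pi_inv], fun x hx => by
      obtain ⟨t, ht⟩ := Submodule.mem_span_singleton.1 (a2 x hx)
      rw [hz', ← ht, map_smul, pi_inv]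
      exact Submodule.mem_span_singleton.2 ⟨t, rfl⟩, fun x => by
      obtain ⟨z, hz1, hz2⟩ := a3 (π u x)
      rwa [hz', hz2, pi_inv]⟩ (fun d hd => comm_of_pi hsep (FR.comm_le_Iso hy) (hD.symm d hd) fun x => by
      have b1 : π d (π y x) = π d x + π d (π e (π y x - x)) := by rw [a4, map_sub, add_sub_cancel]
      by_cases hde : d = e
      · subst hde
        have b2 := a5 (x - π d x) (by rw [map_sub, pi_idem hD hd, sub_self])
        rw [map_sub, sub_eq_sub_iff_sub_eq_sub] at b2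
        rw [b1, a4, a4, b2, add_sub_cancel]
      · rw [b1, pi_orth hD hd he hde, add_zero, a5 _ (pi_orth hD he hd (Ne.symm hde) x)]) e he
  have h4 : ∀ x, π (g⁻¹ : Aˣ) (π y (π g (π e x))) = π d' (π (g⁻¹ : Aˣ) (π y (π g x))) := fun x => by
    rw [← hz, ← hz, ← pi_mul, h3, pi_mul]
  obtain rfl : d' = e := by
    by_contra hne
    have h5 := h4 w
    rw [hw, hyw, pi_inv, ← hw, pi_orth hD hd' he hne, hw] at h5
    exact hw0 h5
  exact ⟨fun x hx => ⟨_, by rw [← h4, hx, map_zero, map_zero, map_zero], (pi_inv' π g _).symm⟩,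
    fun x hx => ⟨_, by rw [← h4, hx], (pi_inv' π g _).symm⟩⟩

end Cfsg.Agent.TH.Cl.Big
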