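import Cfsg.Agent.TH.Cl.Big.L

/-!
# S3541, classical socles: invariant frames of spaces with a form (helper57)
-/

set_option autoImplicit false
set_option linter.unusedSectionVars false

namespace Cfsg.Agent.TH.Cl.Big

open Cfsg.Agent.DS.Cl Cfsg.Agent.DS.Cl.Fwd Cfsg.Agent.SB.Cl Module
open Cfsg.Agent.SB.Fld (prU)

variable {K V : Type} [Field K] [Fintype K] [AddCommGroup V] [Module K V] [Finite V] {h : HF K V} {F : FR h.EB}
  {G H : Subgroup (RingAut h.EB)} {m p : ℕ} {D : Finset h.EB} {e : h.EB}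

theorem b_swap_zero {u v : V} (h0 : h.b u v = 0) : h.b v u = 0 := by rw [h.swap u v, h0, map_zero, mul_zero]

theorem b_cross (hs : star e = e) {x z : V} (hx : h.ap e x = x) (hz : h.ap e z = 0) : h.b x z = 0 := by
  rw [← hx, ← h.b_star, hs, hz, h.zero_right]

theorem b_cross' (hs : star e = e) {x z : V} (hx : h.ap e x = x) (hz : h.ap e z = 0) : h.b z x = 0 :=
  b_swap_zero (b_cross hs hx hz)

theorem b_ap (hs : star e = e) {t : V} (ht : h.ap e t = t) (x : V) : h.b (h.ap e x) t = h.b x t := by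
  rw [← h.b_star, hs, ht]

theorem iso_b {u : h.EBˣ} (hu : u ∈ F.Iso) (x y : V) : h.b (h.ap u x) (h.ap u y) = h.b x y :=
  (h.unit_iff u).1 hu.1 x y

theorem ap_ne {u : h.EBˣ} {x : V} (hx : x ≠ 0) : h.ap u x ≠ 0 := fun h0 =>
  hx (by rw [← SB.Tor.ap_inv_ap h u x, h0, map_zero])

theorem ap_idem (hD : Fr D) (he : e ∈ D) (x : V) : h.ap e (h.ap e x) = h.ap e x := pi_idem (π := prU h) hD he x

/-- a pair of vectors of another block -/
theorem exists_pair (hD : Fr D) (he : e ∈ D) : ∃ f ∈ D, ∃ z₁ z₂, h.ap f z₁ = z₁ ∧ h.ap f z₂ = z₂ ∧ h.b z₁ z₂ = 1 ∧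
    ∀ z, h.ap f z = z → h.ap e z = 0 := by
  obtain ⟨f, hf, hfe, w, h0, hw⟩ := exists_other (π := prU h) (fun _ h _ => h) hD e
  obtain ⟨z, hz, hzw⟩ := SB.Tor.Fr.exists_ne h hD hf hw h0
  exact ⟨f, hf, (h.b z w)⁻¹ • z, w, by rw [map_smul, hz], hw, by rw [h.smul_left, inv_mul_cancel₀ hzw],
    fun z hz => SB.Tor.Fr.ap_eq_zero h hD he hf hfe.symm hz⟩

/-- a partner in the same block -/
theorem exists_partner (hD : Fr D) (he : e ∈ D) {x : V} (hx : h.ap e x = x) (h0 : x ≠ 0) (c : K) :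
    ∃ y, h.ap e y = y ∧ h.b y x = c := by
  obtain ⟨z, hz, hzw⟩ := SB.Tor.Fr.exists_ne h hD he hx h0
  exact ⟨(c * (h.b z x)⁻¹) • z, by rw [map_smul, hz], by rw [h.smul_left, mul_assoc, inv_mul_cancel₀ hzw, mul_one]⟩

/-- the key lemma for Eichler transformations -/
theorem keyF (c : Ctx F G H m p) (hD : Fr D) (hI : Inv H D) (he : e ∈ D) {e₀ : V} (h1 : h.ap e e₀ = e₀)
    (h2 : h.b e₀ e₀ = 0) {g : h.EBˣ} (hg : g ∈ (⁅F.Iso, F.Iso⁆ : Subgroup h.EBˣ)) :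
    ∃ u ∈ F.Iso, h.ap e (h.ap u e₀) = h.ap u e₀ ∧ ∀ (t : V) (s c : K), h.ap e t = t → h.b t (h.ap u e₀) = 0 →
      Eich h F (h.ap u e₀) t s c → ∀ w, w ≠ 0 → h.ap e w = w → h.b (h.ap g w) (h.ap u e₀) = 0 → h.b (h.ap g w) t = 0 →
        (∀ x, h.ap e x = 0 → ∃ x', h.ap e x' = 0 ∧ h.ap g x + h.b (h.ap g x) (h.ap u e₀) • t -
          (s * h.b (h.ap g x) t + c * h.b (h.ap g x) (h.ap u e₀)) • h.ap u e₀ = h.ap g x') ∧
        ∀ x, h.ap e x = x → ∃ x', h.ap e x' = x' ∧ h.ap g x + h.b (h.ap g x) (h.ap u e₀) • t -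
          (s * h.b (h.ap g x) t + c * h.b (h.ap g x) (h.ap u e₀)) • h.ap u e₀ = h.ap g x' := by
  obtain ⟨u, hu, a1, a2⟩ := key (π := prU h) (fun _ h _ => h) c hD hI he e₀ (LinearMap.ker (h.lin e₀)) hg
  have a3 : h.ap e (h.ap u e₀) = h.ap u e₀ := (a1 e₀).trans (congrArg _ h1)
  refine ⟨u, hu, a3, ?_⟩
  rintro t s c ht hte ⟨y, hy, hy'⟩ w hw0 hw b1 b2
  have a4 : h.b (h.ap u e₀) (h.ap u e₀) = 0 := by rw [iso_b hu, h2]
  have a5 : ∀ x, h.ap y x - x = h.b x (h.ap u e₀) • t - (s * h.b x t + c * h.b x (h.ap u e₀)) • h.ap u e₀ := fun x => by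
    rw [hy']; abel
  have a6 := a2 y hy (show h.ap y (h.ap u e₀) = h.ap u e₀ by rw [hy', a4, b_swap_zero hte]; simp)
    (fun x hx => show h.ap y (h.ap u x) - h.ap u x ∈ K ∙ h.ap u e₀ by
      rw [a5, iso_b hu, show h.b x e₀ = 0 from hx, zero_smul, zero_sub]
      exact neg_mem (Submodule.mem_span_singleton.2 ⟨_, rfl⟩))
    (fun x => ⟨h.ap (u⁻¹ : h.EBˣ) (h.ap y x - x), show h.b _ e₀ = 0 by
      rw [← iso_b hu, SB.Tor.ap_ap_inv, a5, h.sub_left, h.smul_left, h.smul_left, hte, a4]; simp,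
      (SB.Tor.ap_ap_inv h u _).symm⟩)
    (fun x => show h.ap e (h.ap y x - x) = h.ap y x - x by rw [a5, map_sub, map_smul, map_smul, ht, a3])
    (fun x (hx : h.ap e x = 0) => show h.ap y x = x by
      rw [hy', b_cross' (hD.symm e he) a3 hx, b_cross' (hD.symm e he) ht hx]; simp)
    w hw0 hw (show h.ap y (h.ap g w) = h.ap g w by rw [hy', b1, b2]; simp)
  simp only [← hy']
  exact a6

variable (h) in
/-- the part of the block which is moved out -/
def out (e : h.EB) (g : h.EBˣ) : Submodule K V := (LinearMap.ker (h.ap e)).map (h.ap e ∘ₗ h.ap g)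

theorem mem_out {g : h.EBˣ} {z : V} (hz : h.ap e z = 0) : h.ap e (h.ap g z) ∈ out h e g := ⟨z, hz, rfl⟩

/-- the exchange of parts of two blocks -/
theorem swap (c : Ctx F G H m p) (hD : Fr D) (hI : Inv H D) (he : e ∈ D) {e₀ : V} (h1 : h.ap e e₀ = e₀)
    (h2 : h.b e₀ e₀ = 0) {g : h.EBˣ} (hg : g ∈ (⁅F.Iso, F.Iso⁆ : Subgroup h.EBˣ)) {w : V} (hw0 : w ≠ 0)
    (hw : h.ap e w = w) (hgw : h.ap e (h.ap g w) = 0) :
    ∃ u ∈ F.Iso, h.ap e (h.ap u e₀) = h.ap u e₀ ∧ ∀ (t : V) (s c : K), h.ap e t = t → h.b t (h.ap u e₀) = 0 →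
      Eich h F (h.ap u e₀) t s c → ∀ x ∈ out h e g,
        h.b x (h.ap u e₀) • t - (s * h.b x t + c * h.b x (h.ap u e₀)) • h.ap u e₀ ∈ out h e g := by
  obtain ⟨u, hu, a1, a2⟩ := keyF c hD hI he h1 h2 hg
  refine ⟨u, hu, a1, ?_⟩
  rintro t s c ht hte hE _ ⟨z, hz, rfl⟩
  have hs := hD.symm e he
  obtain ⟨z', b1, b2⟩ := (a2 t s c ht hte hE w hw0 hw (b_cross' hs a1 hgw) (b_cross' hs ht hgw)).1 z hz
  have b3 := congrArg (h.ap e) b2
  rw [map_sub, map_add, map_smul, map_smul, ht, a1, add_sub_assoc, ← eq_sub_iff_add_eq'] at b3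
  rw [LinearMap.comp_apply, b_ap hs a1, b_ap hs ht, b3]
  exact sub_mem (mem_out b1) (mem_out hz)

/-- a non-degenerate subspace invariant under the Eichler transformations with centre `e'` -/
theorem mem_sup {P : Submodule K V} {e' : V} (h0 : e' ≠ 0) (hP : ∀ x ∈ P, h.ap e x = x) (hP0 : ∃ x ∈ P, x ≠ 0)
    (hnd : ∀ v ∈ P, (∀ x ∈ P, h.b x v = 0) → v = 0)
    (hE : ∀ t, h.ap e t = t → h.b t e' = 0 → ∃ s c : K, s ≠ 0 ∧ ∀ x ∈ P,
      h.b x e' • t - (s * h.b x t + c * h.b x e') • e' ∈ P) {v : V} (hv : h.ap e v = v) : v ∈ P ⊔ K ∙ e' := by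
  by_cases hx : ∀ x ∈ P, h.b x e' = 0
  · exfalso
    obtain ⟨t, ht, ht0⟩ := hP0
    obtain ⟨s, c, hs, a1⟩ := hE t (hP t ht) (hx t ht)
    refine ht0 (hnd t ht fun x hxP => not_not.1 fun a2 => h0 (hnd e' ?_ hx))
    have a3 := a1 x hxP
    rw [hx x hxP, zero_smul, zero_sub, mul_zero, add_zero, neg_mem_iff] at a3
    exact (P.smul_mem_iff (mul_ne_zero hs a2)).1 a3
  push Not at hx
  obtain ⟨x, hxP, hx⟩ := hx
  obtain ⟨s, c, -, a1⟩ := hE (v - (h.b v e' / h.b x e') • x) (by rw [map_sub, map_smul, hv, hP x hxP])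
    (by rw [h.sub_left, h.smul_left, div_mul_cancel₀ _ hx, sub_self])
  have a2 := (Submodule.sub_mem_iff_left _ (Submodule.mem_sup_right (Submodule.mem_span_singleton.2 ⟨_, rfl⟩))).1
    (Submodule.mem_sup_left (T := K ∙ e') (a1 x hxP))
  rw [Submodule.smul_mem_iff _ hx] at a2
  have a3 := add_mem a2 (Submodule.mem_sup_left (T := K ∙ e') (P.smul_mem (h.b v e' / h.b x e') hxP))
  rwa [sub_add_cancel] at a3

theorem finrank_two_le (x y : V) : finrank K (Submodule.span K {x, y}) ≤ 2 := by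
  classical
  have h1 := finrank_span_le_card (R := K) ({x, y} : Set V)
  rw [Set.toFinset_insert, Set.toFinset_singleton] at h1
  exact h1.trans Finset.card_le_two

theorem exists_not_mem_two (hD : Fr D) (he : e ∈ D) (hr : 3 ≤ rk h e) (x y : V) :
    ∃ v, h.ap e v = v ∧ v ∉ Submodule.span K {x, y} :=
  have : Module.Finite K V := Module.Finite.of_finite
  exists_not_mem (ap_idem hD he) (lt_of_le_of_lt (finrank_two_le x y) hr)

/-- **exchange of vectors** : `r` is the reflection exchanging `u` and `w`, and `k` preserves the block -/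
theorem swap_vec (hs : star e = e) {u w : V} (hu : h.ap e u = u) (hw : h.ap e w = 0) (hn : h.b u u ≠ 0)
    (hwu : h.b w w = h.b u u) {g : h.EBˣ}
    (hg : ∀ z, h.ap e z = 0 → h.ap g z = h.ap (SB.Tor.qr h (h.b u u)⁻¹ (u - w)) z) : out h e g = K ∙ u := by
  have a1 : ∀ z, h.ap e z = 0 → h.ap e (h.ap g z) = ((h.b u u)⁻¹ * h.b z w) • u := fun z hz => by
    rw [hg z hz, SB.Tor.ap_qr, map_sub, map_smul, map_sub, hz, hu, hw, h.sub_right, b_cross' hs hu hz]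
    simp
  apply le_antisymm
  · rintro _ ⟨z, hz, rfl⟩
    exact Submodule.mem_span_singleton.2 ⟨_, (a1 z hz).symm⟩
  · rw [Submodule.span_singleton_le_iff_mem]
    have a2 := mem_out (g := g) hw
    rwa [a1 w hw, hwu, inv_mul_cancel₀ hn, one_smul] at a2

/-- **exchange of planes** -/
theorem alt_false (halt : ∀ v, h.b v v = 0) (c : Ctx F G H m p) (hD : Fr D) (hI : Inv H D) (he : e ∈ D)
    (hr : 3 ≤ rk h e) {e₀ : V} (h0 : e₀ ≠ 0) (h1 : h.ap e e₀ = e₀)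
    (hE : ∀ u ∈ F.Iso, ∀ t, h.b t (h.ap u e₀) = 0 → ∃ s c : K, s ≠ 0 ∧ Eich h F (h.ap u e₀) t s c)
    {x₁ x₂ z₁ z₂ : V} (hx₁ : h.ap e x₁ = x₁) (hx₂ : h.ap e x₂ = x₂) (hz₁ : h.ap e z₁ = 0) (hz₂ : h.ap e z₂ = 0)
    (hx : h.b x₂ x₁ = 1) (hz : h.b z₁ z₂ = 1) {a : K} (hg : Eich h F (x₁ + z₁) (x₂ + z₂) (-1) a) : False := by
  have hsw : ∀ u v, h.b v u = -h.b u v := fun u v => by
    have h1 := halt (u + v)
    rw [h.add_left, h.add_right, h.add_right, halt, halt] at h1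
    linear_combination h1
  have hs := hD.symm e he
  obtain ⟨g, hg, hg'⟩ := hg
  have hx' : h.b x₁ x₂ = -1 := by rw [hsw, hx]
  have hx0 : x₁ ≠ 0 := fun h0 => by
    rw [h0, h.zero_right] at hx
    exact zero_ne_one hx
  have a1 : ∀ z, h.ap e z = 0 → h.ap e (h.ap g z) = (h.b z z₂ - a * h.b z z₁) • x₁ + h.b z z₁ • x₂ := fun z hz => by
    simp only [hg', map_sub, map_add, map_smul, hz, hx₁, hx₂, hz₁, hz₂, h.add_right, b_cross' hs hx₁ hz,
      b_cross' hs hx₂ hz]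
    module
  have a2 : x₁ ∈ out h e g := by
    have := mem_out (g := g) hz₁
    rwa [a1 _ hz₁, hz, halt, mul_zero, sub_zero, one_smul, zero_smul, add_zero] at this
  have a3 : x₂ ∈ out h e g := by
    have := sub_mem ((out h e g).smul_mem a a2) (mem_out (g := g) hz₂)
    rw [a1 _ hz₂, halt, hsw z₁ z₂, hz] at this
    convert this using 1
    module
  have a4 : ∀ v ∈ out h e g, ∃ α β : K, v = α • x₁ + β • x₂ := by
    rintro _ ⟨z, hz, rfl⟩
    exact ⟨_, _, a1 z hz⟩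
  obtain ⟨u, hu, b1, b2⟩ := swap c hD hI he h1 (halt _) hg hx0 hx₁ (by
    simp only [hg', map_sub, map_add, map_smul, hx₁, hx₂, hz₁, hz₂, h.add_right, b_cross hs hx₁ hz₁,
      b_cross hs hx₁ hz₂, halt, hx']
    module)
  have b3 : ∀ v, h.ap e v = v → ∃ α β γ : K, v = α • x₁ + β • x₂ + γ • h.ap u e₀ := fun v hv => by
    obtain ⟨y, hy, z, hz, rfl⟩ := Submodule.mem_sup.1 (mem_sup (P := out h e g) (ap_ne (u := u) h0)
      (by
        rintro _ ⟨z, -, rfl⟩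
        exact ap_idem hD he _) ⟨x₁, a2, hx0⟩ (fun v hv hv' => by
        obtain ⟨α, β, rfl⟩ := a4 v hv
        have b4 := hv' _ a2
        have b5 := hv' _ a3
        simp only [h.add_right, h.smul_right, halt, hx, hx', mul_zero, zero_add, add_zero, mul_one, mul_neg,
          neg_eq_zero, map_eq_zero] at b4 b5
        rw [b4, b5, zero_smul, zero_smul, add_zero]) (fun t ht hte => by
        obtain ⟨s, c, hs0, hc⟩ := hE u hu t hte
        exact ⟨s, c, hs0, b2 t s c ht hte hc⟩) hv)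
    obtain ⟨α, β, rfl⟩ := a4 y hy
    obtain ⟨γ, rfl⟩ := Submodule.mem_span_singleton.1 hz
    exact ⟨α, β, γ, rfl⟩
  generalize h.ap u e₀ = e' at b1 b3
  obtain ⟨v, hv, hv'⟩ := exists_not_mem_two hD he hr x₁ x₂
  have b4 : e' + h.b e' x₂ • x₁ - h.b e' x₁ • x₂ = 0 := by
    by_contra hne
    obtain ⟨y, hy, hy'⟩ := exists_partner hD he (by rw [map_sub, map_add, map_smul, map_smul, b1, hx₁, hx₂]) hne 1
    obtain ⟨α, β, γ, rfl⟩ := b3 y hy
    rw [hsw] at hy'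
    simp only [h.add_left, h.sub_left, h.smul_left, h.add_right, h.smul_right, halt, hx, hx', hsw e' x₁,
      hsw e' x₂] at hy'
    exact zero_ne_one (by linear_combination hy')
  obtain ⟨α, β, γ, rfl⟩ := b3 v hv
  refine hv' (Submodule.mem_span_pair.2 ⟨α - γ * h.b e' x₂, β + γ * h.b e' x₁, ?_⟩)
  linear_combination (norm := module) (-γ) • b4

end Cfsg.Agent.TH.Cl.Big
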