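import Cfsg.Agent.TH.Cl.Big.Key

/-!
# S3541, classical socles: the box `BoxBigL` (helper57)
-/

set_option autoImplicit false
set_option linter.unusedSectionVars false

namespace Cfsg.Agent.TH.Cl

open Cfsg.Agent.DS.Cl Cfsg.Agent.DS.Cl.Fwd Cfsg.Agent.SB.Cl Module
open Cfsg.Agent.SB.Fld (prL)

namespace Big

variable {K V : Type} [Field K] [AddCommGroup V] [Module K V]

theorem exists_dual {x z : V} (h : x ∉ K ∙ z) : ∃ f : Dual K V, f x = 1 ∧ f z = 0 := by
  obtain ⟨f, h1, h2⟩ := LinearMap.exists_extend_of_notMem (0 : (K ∙ z) →ₗ[K] K) h 1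
  exact ⟨f, h2, LinearMap.congr_fun h1 ⟨z, Submodule.mem_span_singleton_self z⟩⟩

theorem exists_dual_one {x : V} (h : x ≠ 0) : ∃ f : Dual K V, f x = 1 :=
  (exists_dual (z := 0) (by simpa using h)).imp fun _ h => h.1

/-- a vector of the image of an idempotent outside a small subspace -/
theorem exists_not_mem [Module.Finite K V] {E : End K V} (hE : ∀ x, E (E x) = E x) {P : Submodule K V}
    (h : finrank K P < finrank K (LinearMap.range E)) : ∃ x, E x = x ∧ x ∉ P := by
  by_contra hcon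
  push Not at hcon
  refine absurd (Submodule.finrank_mono (s := LinearMap.range E) (t := P) ?_) h.not_ge
  rintro _ ⟨x, rfl⟩
  exact hcon _ (hE x)

theorem finrank_one_le (x : V) : finrank K (K ∙ x) ≤ 1 := by
  have := finrank_span_le_card (R := K) ({x} : Set V)
  simpa using this

end Big

open Big in
/-- **[C-Big], linear groups** -/
theorem boxBigL : BoxBigL := by
  rintro K _ _ n F G H m p k c ⟨D, hD, hI, e, he, hr⟩
  have hE := pi_idem (π := prL n K) hD he
  have hr' : ∀ z : Fin n → K, ∃ x, prL n K e x = x ∧ x ∉ K ∙ z := fun z =>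
    exists_not_mem hE (lt_of_le_of_lt (finrank_one_le z) hr)
  obtain ⟨v₁, h1, h10⟩ := hr' 0
  replace h10 : v₁ ≠ 0 := by simpa using h10
  obtain ⟨f, hf, hfe, v₂, h20, h2⟩ := exists_other prL_sep hD e
  replace h2 : prL n K e v₂ = 0 := by rw [← h2, pi_orth hD he hf hfe.symm]
  obtain ⟨φ₁, hφ₁⟩ := exists_dual_one (K := K) h10
  obtain ⟨φ₂, hφ₂⟩ := exists_dual_one (K := K) h20
  obtain ⟨φ, a1, a2⟩ : ∃ φ : Dual K (Fin n → K), φ v₁ = -1 ∧ φ v₂ = 1 :=
    ⟨φ₂ - φ₂ ∘ₗ prL n K e - φ₁ ∘ₗ prL n K e, by simp [h1, hφ₁], by simp [h2, hφ₂]⟩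
  obtain ⟨g, hg, hg'⟩ := k.exists_lift (w := LinearMap.transvection φ (v₁ + v₂))
    (by rw [LinearMap.transvection.det, map_add, a1, a2]; ring)
  obtain ⟨u, -, hu, hy⟩ := key prL_sep c hD hI he v₁ ⊤ hg
  have hu1 : prL n K e (prL n K u v₁) = prL n K u v₁ := by rw [hu, h1]
  have hu0 : prL n K u v₁ ≠ 0 := fun h0 => h10 (by rw [← pi_inv (prL n K) u v₁, h0, map_zero])
  have hsurj : ∀ x, ∃ z ∈ (⊤ : Submodule K (Fin n → K)), x = prL n K u z := fun x => ⟨_, trivial, (pi_inv' _ u x).symm⟩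
  generalize prL n K u v₁ = e' at hy hu1 hu0
  have main : ∀ ψ : Dual K (Fin n → K), ψ e' = 0 →
      ψ v₁ • e' ∈ K ∙ v₁ ∧ ∀ x, prL n K e x = x → ψ (x + φ x • v₁) * φ e' = 0 := by
    intro ψ hψ
    obtain ⟨y, hy1, hy2⟩ := k.exists_lift (w := LinearMap.transvection (ψ ∘ₗ prL n K e) e')
      (by rw [LinearMap.transvection.det, LinearMap.comp_apply, hu1, hψ, add_zero])
    have b0 : ∀ x, prL n K y x = x + ψ (prL n K e x) • e' := fun x => by rw [hy2]; rfl
    have b1 : ∀ x, prL n K g x = x + φ x • (v₁ + v₂) := fun x => by rw [hg']; rfl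
    obtain ⟨b2, b3⟩ := hy y hy1 (by rw [b0, hu1, hψ, zero_smul, add_zero])
      (fun x _ => by rw [b0, add_sub_cancel_left]; exact Submodule.mem_span_singleton.2 ⟨_, rfl⟩)
      (fun x => hsurj _) (fun x => by rw [b0, add_sub_cancel_left, map_smul, hu1])
      (fun x hx => by rw [b0, hx, map_zero, zero_smul, add_zero]) v₁ h10 h1
      (by rw [b0, b1, a1]; simp [h2])
    constructor
    · obtain ⟨x', b4, b5⟩ := b2 v₂ h2
      have b6 := congrArg (prL n K e) b5
      simp only [b0, b1, a2, map_add, map_smul, h1, h2, hu1, b4, one_smul, zero_add, add_zero] at b6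
      rw [eq_sub_of_add_eq' b6]
      exact sub_mem (Submodule.mem_span_singleton.2 ⟨_, rfl⟩) (Submodule.mem_span_singleton_self _)
    · intro x hx
      obtain ⟨x', b4, b5⟩ := b3 x hx
      have b6 := congrArg (prL n K e) b5
      simp only [b0, b1, map_add, map_smul, h1, h2, hu1, b4, hx, add_zero] at b5 b6
      have b7 : φ x • v₂ = φ x' • v₂ := by
        rw [smul_add, smul_add] at b5
        linear_combination (exp := 1) b5 - b6
      have b8 := smul_left_injective K h20 b7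
      have b9 := congrArg φ b6
      simp only [map_add, map_smul, smul_eq_mul] at b9 ⊢
      replace b8 : φ x = φ x' := b8
      linear_combination b9 - (1 + φ v₁) * b8
  by_cases h3 : v₁ ∈ K ∙ e'
  · obtain ⟨t, ht⟩ := Submodule.mem_span_singleton.1 h3
    obtain ⟨x, hx, hx'⟩ := hr' e'
    obtain ⟨ψ, b1, b2⟩ := exists_dual hx'
    have b3 := (main ψ b2).2 x hx
    rw [← ht, map_smul, smul_eq_mul] at a1
    rw [← ht, map_add, map_smul, map_smul, b1, b2, smul_zero, smul_zero, add_zero, one_mul] at b3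
    rw [b3, mul_zero] at a1
    exact one_ne_zero (neg_eq_zero.1 a1.symm)
  · obtain ⟨ψ, b1, b2⟩ := exists_dual h3
    have b3 := (main ψ b2).1
    rw [b1, one_smul] at b3
    obtain ⟨t, ht⟩ := Submodule.mem_span_singleton.1 b3
    have ht0 : t ≠ 0 := fun h0 => hu0 (by rw [← ht, h0, zero_smul])
    exact h3 (Submodule.mem_span_singleton.2 ⟨t⁻¹, by rw [← ht, smul_smul, inv_mul_cancel₀ ht0, one_smul]⟩)

end Cfsg.Agent.TH.Cl
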